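import Groth.Agent.SteinConn.General

/-!
# Idempotents on a fibre of a proper morphism come from functions near the fibre
-/

set_option autoImplicit false
set_option backward.isDefEq.respectTransparency false
set_option linter.style.haveILetI false

universe u

open CategoryTheory CategoryTheory.Limits AlgebraicGeometry TopologicalSpace Opposite

noncomputable section

namespace Groth.Agent.PropIdemLib

/-- A clopen piece of a fibre of `Spec R → Spec A` is cut out by `b / u`. -/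
theorem exists_approx_idempotent {A R : Type u} [CommRing A] [CommRing R] [Algebra A R] (p : Ideal A) [p.IsPrime]
    (D : Set (PrimeSpectrum R))
    (hD : IsClopen ((Subtype.val : {P : PrimeSpectrum R // P.asIdeal.comap (algebraMap A R) = p} → PrimeSpectrum R) ⁻¹' D)) :
    ∃ (b : R) (u : A), u ∉ p ∧
      (∀ P : PrimeSpectrum R, P.asIdeal.comap (algebraMap A R) = p → (P ∈ D ↔ b ∉ P.asIdeal)) ∧
      ∃ w : A, w ∉ p ∧ algebraMap A R w * (b * b - algebraMap A R u * b) ∈ p.map (algebraMap A R) := by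
  let M := Algebra.algebraMapSubmonoid R p.primeCompl
  let L := Localization M
  let pL : Ideal L := (p.map (algebraMap A R)).map (algebraMap R L)
  let q : R →+* L ⧸ pL := (Ideal.Quotient.mk pL).comp (algebraMap R L)
  let F := {P : PrimeSpectrum R // P.asIdeal.comap (algebraMap A R) = p}
  have hq : ∀ P : PrimeSpectrum (L ⧸ pL), (PrimeSpectrum.comap q P).asIdeal.comap (algebraMap A R) = p := by
    intro P
    apply le_antisymm
    · intro a ha
      by_contra hc
      exact P.2.ne_top (Ideal.eq_top_of_isUnit_mem _ ha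
        ((IsLocalization.map_units L (⟨algebraMap A R a, a, hc, rfl⟩ : M)).map (Ideal.Quotient.mk pL)))
    · intro a ha
      show q (algebraMap A R a) ∈ P.asIdeal
      rw [show q (algebraMap A R a) = 0 from Ideal.Quotient.eq_zero_iff_mem.2
        (Ideal.mem_map_of_mem _ (Ideal.mem_map_of_mem _ ha))]
      exact zero_mem _
  let g : PrimeSpectrum (L ⧸ pL) → F := fun P => ⟨PrimeSpectrum.comap q P, hq P⟩
  have hg : Continuous g := (PrimeSpectrum.continuous_comap q).subtype_mk _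
  obtain ⟨ε, hε, heq⟩ := PrimeSpectrum.exists_idempotent_basicOpen_eq_of_isClopen (hD.preimage hg)
  obtain ⟨y, rfl⟩ := Ideal.Quotient.mk_surjective ε
  obtain ⟨⟨b, v, u, hu, rfl⟩, hb⟩ := IsLocalization.surj M y
  have hbu : q b = Ideal.Quotient.mk pL y * q (algebraMap A R u) := by
    show Ideal.Quotient.mk pL (algebraMap R L b) = Ideal.Quotient.mk pL y * Ideal.Quotient.mk pL _
    rw [← map_mul]
    exact congrArg _ hb.symm
  refine ⟨b, u, hu, fun P hP => ?_, ?_⟩
  · have hd : Disjoint (M : Set R) (P.asIdeal : Set R) := by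
      rw [Set.disjoint_left]
      rintro _ ⟨a, ha, rfl⟩ hm
      exact ha (hP ▸ hm)
    haveI := P.2
    have hprime := IsLocalization.isPrime_of_isPrime_disjoint M L P.asIdeal P.2 hd
    have hle : pL ≤ P.asIdeal.map (algebraMap R L) := Ideal.map_mono (Ideal.map_le_iff_le_comap.2 hP.ge)
    let P' : PrimeSpectrum (L ⧸ pL) :=
      ⟨(P.asIdeal.map (algebraMap R L)).map (Ideal.Quotient.mk pL),
        Ideal.map_isPrime_of_surjective Ideal.Quotient.mk_surjective (by rwa [Ideal.mk_ker])⟩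
    have hP' : PrimeSpectrum.comap q P' = P := by
      apply PrimeSpectrum.ext
      show (((P.asIdeal.map (algebraMap R L)).map (Ideal.Quotient.mk pL))).comap q = P.asIdeal
      rw [← Ideal.comap_comap, Ideal.comap_map_of_surjective _ Ideal.Quotient.mk_surjective,
        ← RingHom.ker_eq_comap_bot, Ideal.mk_ker, sup_eq_left.2 hle]
      exact IsLocalization.under_map_of_isPrime_disjoint M L P.2 hd
    have h1 : P ∈ D ↔ P' ∈ PrimeSpectrum.basicOpen (Ideal.Quotient.mk pL y) := by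
      rw [← SetLike.mem_coe, ← heq]
      show P ∈ D ↔ PrimeSpectrum.comap q P' ∈ D
      rw [hP']
    rw [h1, PrimeSpectrum.mem_basicOpen, show (b ∉ P.asIdeal) ↔ q b ∉ P'.asIdeal from
      not_congr (by rw [show P.asIdeal = P'.asIdeal.comap q from congrArg PrimeSpectrum.asIdeal hP'.symm]; rfl), hbu]
    refine not_congr ⟨fun h => P'.asIdeal.mul_mem_right _ h, fun h => (P'.2.mem_or_mem h).resolve_right fun h' => hu ?_⟩
    rw [← hP, show P.asIdeal = P'.asIdeal.comap q from congrArg PrimeSpectrum.asIdeal hP'.symm]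
    exact h'
  · have hz : q (b * b - algebraMap A R u * b) = 0 := by
      rw [map_sub, map_mul, map_mul, hbu]
      linear_combination (q (algebraMap A R u) * q (algebraMap A R u)) * hε.eq
    have hz' : algebraMap R L (b * b - algebraMap A R u * b) ∈ (p.map (algebraMap A R)).map (algebraMap R L) :=
      Ideal.Quotient.eq_zero_iff_mem.1 hz
    obtain ⟨_, ⟨w, hw, rfl⟩, hm⟩ := (IsLocalization.algebraMap_mem_map_algebraMap_iff M L _ _).1 hz'
    exact ⟨w, hw, hm⟩

theorem eq_zero_or_one {R : Type u} [CommRing R] [IsLocalRing R] {a : R} (ha : IsIdempotentElem a) : a = 0 ∨ a = 1 := by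
  rcases IsLocalRing.isUnit_or_isUnit_one_sub_self a with h | h
  · exact Or.inr (h.mul_left_cancel (ha.eq.trans (mul_one a).symm))
  · refine Or.inl ((h.mul_right_eq_zero).1 ?_)
    rw [sub_mul, one_mul, ha.eq, sub_self]

theorem mem_prime_iff {S : Scheme.{u}} {V : S.Opens} (hV : IsAffineOpen V) (P : PrimeSpectrum Γ(S, V)) (a : Γ(S, V)) :
    a ∈ P.asIdeal ↔ hV.fromSpec P ∉ S.basicOpen a := by
  change _ ↔ P ∉ hV.fromSpec ⁻¹ᵁ S.basicOpen a
  rw [hV.fromSpec_preimage_basicOpen]
  exact not_not.symm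

/-- An idempotent vanishing at every point is zero. -/
theorem eq_zero_of_isIdempotentElem {X : Scheme.{u}} (z : Γ(X, ⊤)) (hz : IsIdempotentElem z) (h : X.basicOpen z = ⊥) :
    z = 0 := by
  apply TopCat.Presheaf.section_ext X.sheaf
  intro x hx
  rcases eq_zero_or_one (hz.map (X.presheaf.germ ⊤ x hx).hom) with h0 | h1
  · exact h0.trans (map_zero (X.presheaf.germ ⊤ x hx).hom).symm
  · exfalso
    have : x ∈ X.basicOpen z := (X.mem_basicOpen z x hx).2 (h1 ▸ isUnit_one)
    rw [h] at this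
    exact this

theorem idempotent_ext {X : Scheme.{u}} (c e : Γ(X, ⊤)) (hc : IsIdempotentElem c) (he : IsIdempotentElem e)
    (h : X.basicOpen c = X.basicOpen e) : c = e := by
  have key : ∀ a b : Γ(X, ⊤), IsIdempotentElem a → IsIdempotentElem b → X.basicOpen a ≤ X.basicOpen b → a * b = a := by
    intro a b ha hb hle
    have : a * (1 - b) = 0 := by
      refine eq_zero_of_isIdempotentElem _ (ha.mul hb.one_sub) ?_
      rw [X.basicOpen_mul, eq_bot_iff]
      rintro x ⟨h1, h2⟩
      have h1' := (X.mem_basicOpen b x (Set.mem_univ x)).1 (hle h1)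
      have h2' := (X.mem_basicOpen (1 - b) x (Set.mem_univ x)).1 h2
      rcases eq_zero_or_one (hb.map (X.presheaf.germ ⊤ x (Set.mem_univ x)).hom) with h0 | h0
      · exact not_isUnit_zero (h0 ▸ h1')
      · rw [map_sub, map_one] at h2'
        exact not_isUnit_zero (by rwa [h0, sub_self] at h2')
    rw [mul_sub, mul_one, sub_eq_zero] at this
    exact this.symm
  rw [← key c e hc he h.le, mul_comm, key e c he hc h.ge]

theorem exists_section {X S : Scheme.{u}} (f : X ⟶ S) [IsProper f] (s : S)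
    (e : (f.fiber s).presheaf.obj (op ⊤)) (he : IsIdempotentElem e) :
    ∃ (V : S.Opens) (_ : s ∈ V) (t : X.presheaf.obj (op (f ⁻¹ᵁ V))),
      ((f.fiberι s).app (f ⁻¹ᵁ V)).hom t =
        ((f.fiber s).presheaf.map (homOfLE (le_top : (f.fiberι s) ⁻¹ᵁ (f ⁻¹ᵁ V) ≤ ⊤)).op).hom e := by
  obtain ⟨_, ⟨V : S.Opens, hV, rfl⟩, hsV, -⟩ :=
    S.isBasis_affineOpens.exists_subset_of_mem_open (Set.mem_univ s) isOpen_univ
  let g := f.toNormalization
  let h := f.fromNormalization
  have hgh : g ≫ h = f := f.toNormalization_fromNormalization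
  haveI : GeometricallyConnected g := SteinConn.geometricallyConnected_toNormalization' f
  haveI : UniversallyClosed g := inferInstance
  let ι := f.fiberι s
  let W := h ⁻¹ᵁ V
  have hW : IsAffineOpen W := hV.preimage h
  let R := Γ(f.normalization, W)
  let A := Γ(S, V)
  letI : Algebra A R := (h.app V).hom.toAlgebra
  let p := (hV.primeIdealOf ⟨s, hsV⟩).asIdeal
  have hp : ∀ a : A, a ∈ p ↔ s ∉ S.basicOpen a := fun a =>
    (mem_prime_iff hV _ a).trans (by rw [hV.fromSpec_primeIdealOf])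
  -- points of `Spec R`
  have hbasic : ∀ (P : PrimeSpectrum R) (r : R), r ∉ P.asIdeal ↔ hW.fromSpec P ∈ f.normalization.basicOpen r :=
    fun P r => (not_congr (mem_prime_iff hW P r)).trans not_not
  have hfib : ∀ P : PrimeSpectrum R, P.asIdeal.comap (algebraMap A R) = p ↔ h (hW.fromSpec P) = s := by
    intro P
    have hmem : hW.fromSpec P ∈ W := by rw [← SetLike.mem_coe, ← hW.range_fromSpec]; exact ⟨P, rfl⟩
    have hc : ∀ a : A, a ∈ P.asIdeal.comap (algebraMap A R) ↔ h (hW.fromSpec P) ∉ S.basicOpen a := fun a => by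
      change h.app V a ∈ P.asIdeal ↔ hW.fromSpec P ∉ h ⁻¹ᵁ S.basicOpen a
      rw [h.preimage_basicOpen, ← hbasic, not_not]
    constructor
    · intro hP
      have e1 : hV.primeIdealOf ⟨h (hW.fromSpec P), hmem⟩ = hV.primeIdealOf ⟨s, hsV⟩ := by
        apply PrimeSpectrum.ext
        ext a
        rw [mem_prime_iff hV, hV.fromSpec_primeIdealOf]
        exact (hc a).symm.trans (SetLike.ext_iff.1 hP a)
      have := congrArg hV.fromSpec e1
      rwa [hV.fromSpec_primeIdealOf, hV.fromSpec_primeIdealOf] at this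
    · intro hP
      ext a
      rw [hc a, hp a, hP]
  -- the clopen piece
  let C : Set X := ι '' ((f.fiber s).basicOpen e : Set (f.fiber s))
  let C' : Set X := ι '' ((f.fiber s).basicOpen (1 - e) : Set (f.fiber s))
  let F := {P : PrimeSpectrum R // P.asIdeal.comap (algebraMap A R) = p}
  have hcov : ∀ x, f x = s → x ∈ C ∨ x ∈ C' := by
    intro x hx
    obtain ⟨y, rfl⟩ : x ∈ Set.range ι := by rw [f.range_fiberι]; exact hx
    rcases eq_zero_or_one
      (he.map ((f.fiber s).presheaf.germ ⊤ y trivial).hom) with h0 | h0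
    · refine Or.inr ⟨y, ((f.fiber s).mem_basicOpen (1 - e) y (Set.mem_univ y)).2 ?_, rfl⟩
      rw [map_sub, map_one, show ((f.fiber s).presheaf.germ ⊤ y trivial) e = 0 from h0, sub_zero]
      exact isUnit_one
    · exact Or.inl ⟨y, ((f.fiber s).mem_basicOpen e y trivial).2 (h0 ▸ isUnit_one), rfl⟩
  have hdisj : ∀ y, y ∈ (f.fiber s).basicOpen e → y ∉ (f.fiber s).basicOpen (1 - e) := by
    intro y h1 h2
    have h1' := ((f.fiber s).mem_basicOpen e y trivial).1 h1
    have h2' := ((f.fiber s).mem_basicOpen (1 - e) y (Set.mem_univ y)).1 h2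
    rw [map_sub, map_one] at h2'
    rcases eq_zero_or_one
      (he.map ((f.fiber s).presheaf.germ ⊤ y trivial).hom) with h0 | h0
    · exact not_isUnit_zero (h0 ▸ h1')
    · exact not_isUnit_zero (by rwa [show ((f.fiber s).presheaf.germ ⊤ y trivial) e = 1 from h0, sub_self] at h2')
  -- both images are relatively closed and disjoint
  have hsep : ∀ z, h z = s → ¬(z ∈ g '' C ∧ z ∈ g '' C') := by
    rintro z hz ⟨⟨_, ⟨y₁, hy₁, rfl⟩, h₁⟩, ⟨_, ⟨y₂, hy₂, rfl⟩, h₂⟩⟩
    have hconn := g.isConnected_preimage_singleton z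
    have hsub : g ⁻¹' {z} ⊆ Set.range ι := fun x hx => by
      rw [f.range_fiberι]
      show f x = s
      rw [← hgh]
      exact (congrArg h hx).trans hz
    let O₁ := ((f.fiber s).basicOpen e)
    let O₂ := ((f.fiber s).basicOpen (1 - e))
    obtain ⟨U₁, hU₁, e₁⟩ := ι.isEmbedding.isInducing.isOpen_iff.1 O₁.2
    obtain ⟨U₂, hU₂, e₂⟩ := ι.isEmbedding.isInducing.isOpen_iff.1 O₂.2
    obtain ⟨x, hxz, hx₁, hx₂⟩ := hconn.isPreconnected U₁ U₂ hU₁ hU₂ (fun x hx => by
        obtain ⟨y, rfl⟩ := hsub hx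
        rcases hcov (ι y) (by rw [← Set.mem_singleton_iff, ← Set.mem_preimage, ← f.range_fiberι]; exact ⟨y, rfl⟩) with
          ⟨y', hy', e'⟩ | ⟨y', hy', e'⟩
        · exact Or.inl (ι.isEmbedding.injective e' ▸ (Set.ext_iff.1 e₁ y').2 hy')
        · exact Or.inr (ι.isEmbedding.injective e' ▸ (Set.ext_iff.1 e₂ y').2 hy'))
      ⟨ι y₁, h₁, (Set.ext_iff.1 e₁ y₁).2 hy₁⟩ ⟨ι y₂, h₂, (Set.ext_iff.1 e₂ y₂).2 hy₂⟩
    obtain ⟨y, rfl⟩ := hsub hxz
    exact hdisj y ((Set.ext_iff.1 e₁ y).1 hx₁) ((Set.ext_iff.1 e₂ y).1 hx₂)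
  have hclosed : ∀ (O : (f.fiber s).Opens) (O' : (f.fiber s).Opens), (∀ y, y ∈ O ↔ y ∉ O') →
      IsClosed ((fun P : F => hW.fromSpec P.1) ⁻¹' (g '' (ι '' (O : Set (f.fiber s))))) := by
    intro O O' hO
    have hcl : IsClosed (O : Set (f.fiber s)) := by
      rw [← isOpen_compl_iff, show (O : Set (f.fiber s))ᶜ = (O' : Set (f.fiber s)) from Set.ext fun y => by
        rw [Set.mem_compl_iff, SetLike.mem_coe, hO, not_not]; rfl]
      exact O'.2
    obtain ⟨K, hK, eK⟩ := ι.isEmbedding.isInducing.isClosed_iff.1 hcl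
    have heq : (fun P : F => hW.fromSpec P.1) ⁻¹' (g '' (ι '' (O : Set (f.fiber s)))) =
        (fun P : F => hW.fromSpec P.1) ⁻¹' (g '' K) := by
      ext ⟨P, hP⟩
      constructor
      · rintro ⟨_, ⟨y, hy, rfl⟩, hgy⟩
        exact ⟨ι y, (Set.ext_iff.1 eK y).2 hy, hgy⟩
      · rintro ⟨x, hx, hgx⟩
        obtain ⟨y, rfl⟩ : x ∈ Set.range ι := by
          rw [f.range_fiberι]
          show f x = s
          rw [← hgh]
          exact (congrArg h hgx).trans ((hfib P).1 hP)
        exact ⟨ι y, ⟨y, (Set.ext_iff.1 eK y).1 hx, rfl⟩, hgx⟩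
    rw [heq]
    exact (g.isClosedMap K hK).preimage (hW.fromSpec.continuous.comp continuous_subtype_val)
  have hiff : ∀ y, y ∈ (f.fiber s).basicOpen e ↔ y ∉ (f.fiber s).basicOpen (1 - e) := fun y =>
    ⟨hdisj y, fun hn => by
      rcases hcov (ι y) (by rw [← Set.mem_singleton_iff, ← Set.mem_preimage, ← f.range_fiberι]; exact ⟨y, rfl⟩) with
        ⟨y', hy', e'⟩ | ⟨y', hy', e'⟩
      · exact ι.isEmbedding.injective e' ▸ hy'
      · exact (hn (ι.isEmbedding.injective e' ▸ hy')).elim⟩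
  let D : Set (PrimeSpectrum R) := hW.fromSpec ⁻¹' (g '' C)
  have hcompl : ((Subtype.val : F → PrimeSpectrum R) ⁻¹' D)ᶜ = (fun P : F => hW.fromSpec P.1) ⁻¹' (g '' C') := by
    ext ⟨P, hP⟩
    constructor
    · intro hn
      obtain ⟨x, hx⟩ := g.surjective (hW.fromSpec P)
      rcases hcov x (by rw [← hgh]; exact (congrArg h hx).trans ((hfib P).1 hP)) with hc | hc
      · exact (hn ⟨x, hc, hx⟩).elim
      · exact ⟨x, hc, hx⟩
    · exact fun hc hn => hsep _ ((hfib P).1 hP) ⟨hn, hc⟩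
  have hD : IsClopen ((Subtype.val : F → PrimeSpectrum R) ⁻¹' D) := by
    refine ⟨hclosed _ _ hiff, ?_⟩
    rw [← isClosed_compl_iff, hcompl]
    exact hclosed _ _ (fun y => by rw [hiff, not_not])
  obtain ⟨b, u, hu, hbD, w, hw, hwb⟩ := exists_approx_idempotent p D hD
  -- transport to the fibre
  have hpre : g ⁻¹ᵁ W = f ⁻¹ᵁ V := by rw [← Scheme.Hom.comp_preimage, hgh]
  have hι : ι ⁻¹ᵁ (f ⁻¹ᵁ V) = ⊤ := by
    ext y
    refine ⟨fun _ => trivial, fun _ => ?_⟩
    show f (ι y) ∈ V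
    rw [show f (ι y) = s by rw [← Set.mem_singleton_iff, ← Set.mem_preimage, ← f.range_fiberι]; exact ⟨y, rfl⟩]
    exact hsV
  let ψ : Γ(X, f ⁻¹ᵁ V) →+* Γ(f.fiber s, ⊤) :=
    (ι.app (f ⁻¹ᵁ V) ≫ (f.fiber s).presheaf.map (eqToHom hι.symm).op).hom
  let gb : R →+* Γ(X, f ⁻¹ᵁ V) := (g.app W ≫ X.presheaf.map (eqToHom hpre.symm).op).hom
  have hgb : ∀ a : A, gb (algebraMap A R a) = f.app V a := fun a => by
    have h0 : f.app V = h.app V ≫ g.app W ≫ X.presheaf.map (eqToHom hpre.symm).op := by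
      rw [Scheme.Hom.congr_app hgh.symm V, Scheme.Hom.comp_app, Category.assoc]
    rw [h0]
    rfl
  have hψb : ∀ (x : Γ(X, f ⁻¹ᵁ V)), (f.fiber s).basicOpen (ψ x) = ι ⁻¹ᵁ X.basicOpen x := fun x => by
    rw [ι.preimage_basicOpen]
    exact (f.fiber s).basicOpen_res_eq _ (eqToHom hι.symm).op
  have hψp : ∀ a : A, a ∈ p → ψ (f.app V a) = 0 := by
    intro a ha
    let k := S.fromSpecResidueField s
    have hk : k.app V a = 0 := by
      rw [← AlgebraicGeometry.basicOpen_eq_bot_iff, ← k.preimage_basicOpen, eq_bot_iff]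
      intro q hq
      have : S.fromSpecResidueField s q = s := S.fromSpecResidueField_apply s q
      exact ((hp a).1 ha (this ▸ hq)).elim
    have e1 := Scheme.Hom.congr_app (show ι ≫ f = f.fiberToSpecResidueField s ≫ k from pullback.condition) V
    have h1 : ι.app (f ⁻¹ᵁ V) (f.app V a) = 0 := by
      change (f.app V ≫ ι.app (f ⁻¹ᵁ V)) a = 0
      rw [← Scheme.Hom.comp_app, e1, Scheme.Hom.comp_app, CommRingCat.comp_apply, CommRingCat.comp_apply, hk,
        map_zero, map_zero]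
    change (f.fiber s).presheaf.map _ (ι.app (f ⁻¹ᵁ V) (f.app V a)) = 0
    rw [h1, map_zero]
  have hψu : ∀ a : A, a ∉ p → IsUnit (ψ (f.app V a)) := by
    intro a ha
    apply RingedSpace.isUnit_of_isUnit_germ
    intro y hy
    refine ((f.fiber s).mem_basicOpen _ y (Set.mem_univ y)).1 ?_
    rw [hψb]
    show ι y ∈ X.basicOpen (f.app V a)
    rw [← f.preimage_basicOpen]
    show f (ι y) ∈ S.basicOpen a
    rw [show f (ι y) = s by rw [← Set.mem_singleton_iff, ← Set.mem_preimage, ← f.range_fiberι]; exact ⟨y, rfl⟩]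
    by_contra hc
    exact ha ((hp a).2 hc)
  have hfι : ∀ y, f (ι y) = s := fun y => by
    rw [← Set.mem_singleton_iff, ← Set.mem_preimage, ← f.range_fiberι]; exact ⟨y, rfl⟩
  let U : Γ(f.fiber s, ⊤) := ψ (f.app V u)
  obtain ⟨U', hU'⟩ := (hψu u hu).exists_right_inv
  let B : Γ(f.fiber s, ⊤) := ψ (gb b)
  have hBB : B * B = U * B := by
    have hz : ψ (gb (algebraMap A R w * (b * b - algebraMap A R u * b))) = 0 := by
      have hle : p.map (algebraMap A R) ≤ RingHom.ker (ψ.comp gb) := Ideal.map_le_iff_le_comap.2 fun a ha => by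
        rw [Ideal.mem_comap, RingHom.mem_ker, RingHom.comp_apply, hgb]
        exact hψp a ha
      exact hle hwb
    rw [map_mul, map_mul, hgb, (hψu w hw).mul_right_eq_zero, map_sub, map_sub, map_mul, map_mul, map_mul, map_mul,
      hgb] at hz
    exact sub_eq_zero.1 hz
  have hc : IsIdempotentElem (B * U') := by
    show B * U' * (B * U') = B * U'
    calc B * U' * (B * U') = B * B * (U' * U') := by ring
      _ = B * U' * (U * U') := by rw [hBB]; ring
      _ = B * U' := by rw [hU', mul_one]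
  have heB : e = B * U' := by
    refine idempotent_ext _ _ he hc ?_
    rw [Scheme.basicOpen_mul, Scheme.basicOpen_of_isUnit _ (IsUnit.of_mul_eq_one_right U hU'),
      inf_top_eq, hψb]
    ext y
    have hyW : g (ι y) ∈ W := by
      show ι y ∈ g ⁻¹ᵁ W
      rw [hpre]
      show f (ι y) ∈ V
      rw [hfι]; exact hsV
    let P := hW.primeIdealOf ⟨g (ι y), hyW⟩
    have hPz : hW.fromSpec P = g (ι y) := hW.fromSpec_primeIdealOf _
    have hPF : P.asIdeal.comap (algebraMap A R) = p := (hfib P).2 (by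
      rw [hPz]
      exact (congrArg (fun φ : X ⟶ S => φ (ι y)) hgh).trans (hfι y))
    have h2 : ι y ∈ X.basicOpen (gb b) ↔ b ∉ P.asIdeal := by
      rw [hbasic, hPz, show X.basicOpen (gb b) = g ⁻¹ᵁ f.normalization.basicOpen b from
        (X.basicOpen_res_eq _ (eqToHom hpre.symm).op).trans (g.preimage_basicOpen b).symm]
      rfl
    show y ∈ (f.fiber s).basicOpen e ↔ ι y ∈ X.basicOpen (gb b)
    rw [h2, ← hbD P hPF]
    show _ ↔ hW.fromSpec P ∈ g '' C
    rw [hPz]
    refine ⟨fun hy => ⟨ι y, ⟨y, hy, rfl⟩, rfl⟩, fun hy => ?_⟩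
    by_contra hn
    refine hsep _ ?_ ⟨hy, ι y, ⟨y, ?_, rfl⟩, rfl⟩
    · exact (congrArg (fun φ : X ⟶ S => φ (ι y)) hgh).trans (hfι y)
    · by_contra hn'
      exact hn ((hiff y).2 hn')
  let V' := S.basicOpen u
  have hle : f ⁻¹ᵁ V' ≤ f ⁻¹ᵁ V := fun x hx => S.basicOpen_le u hx
  let r := (X.presheaf.map (homOfLE hle).op).hom
  have hu' : IsUnit (r (f.app V u)) := by
    have h1 := RingedSpace.isUnit_res_basicOpen S.toRingedSpace u
    have h2 := ConcreteCategory.congr_hom (f.naturality (homOfLE (S.basicOpen_le u)).op) u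
    change IsUnit (X.presheaf.map (homOfLE hle).op (f.app V u))
    rw [show X.presheaf.map (homOfLE hle).op (f.app V u) = f.app V' (S.presheaf.map (homOfLE (S.basicOpen_le u)).op u) from
      h2.symm]
    exact h1.map (f.app V').hom
  obtain ⟨v, hv⟩ := hu'.exists_right_inv
  refine ⟨V', ?_, r (gb b) * v, ?_⟩
  · by_contra hn
    exact hu ((hp u).2 hn)
  let σ := ((f.fiber s).presheaf.map (homOfLE (le_top : ι ⁻¹ᵁ (f ⁻¹ᵁ V') ≤ ⊤)).op).hom
  have hcomm : ∀ x, (ι.app (f ⁻¹ᵁ V')).hom (r x) = σ (ψ x) := fun x => by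
    have h2 := ConcreteCategory.congr_hom (ι.naturality (homOfLE hle).op) x
    refine h2.trans ?_
    change _ = (f.fiber s).presheaf.map _ ((f.fiber s).presheaf.map _ (ι.app (f ⁻¹ᵁ V) x))
    rw [← ConcreteCategory.comp_apply, ← Functor.map_comp]
    rfl
  show (ι.app (f ⁻¹ᵁ V')).hom (r (gb b) * v) = σ e
  have hUu : IsUnit ((ι.app (f ⁻¹ᵁ V')).hom (r (f.app V u))) := hu'.map _
  apply hUu.mul_left_cancel
  rw [← map_mul, ← mul_assoc, mul_comm (r (f.app V u)), mul_assoc, hv, mul_one, hcomm, hcomm, ← map_mul, heB]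
  congr 1
  calc B = B * (U * U') := by rw [hU', mul_one]
    _ = U * (B * U') := by ring

end Groth.Agent.PropIdemLib
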